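import Groth.Agent.EtDescRep.Basic
import Groth.Agent.EtCons.SplitUH

/-!
Finite locally trivial sheaves of sets on the small etale site are representable by finite etale schemes.
-/

set_option autoImplicit false
set_option backward.isDefEq.respectTransparency false
set_option linter.style.haveILetI false

universe u

open CategoryTheory CategoryTheory.Limits AlgebraicGeometry Opposite

noncomputable section

namespace Groth.Agent.EtDescRep

open EtShLib

variable {S : Scheme.{u}} (G : EtDesc.Sh S)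

/-- `σ` identifies `G` on `U` with a constant sheaf. -/
structure IsTrivSet (U : S.Etale) {M : Type*} (σ : M → EtDesc.sect G U) : Prop where
  surj : ∀ {V : S.Etale} (g : V ⟶ U) (s : EtDesc.sect G V) (v : V.left),
    ∃ (W : S.Etale) (h : W ⟶ V) (m : M), v ∈ Set.range h.left ∧ G.obj.map h.op s = G.obj.map (h ≫ g).op (σ m)
  inj : ∀ {V : S.Etale} (g : V ⟶ U) (m m' : M), G.obj.map g.op (σ m) = G.obj.map g.op (σ m') →
    ∀ _ : V.left, m = m'

variable {G}

theorem IsTrivSet.congr {U : S.Etale} {M N : Type*} {σ : M → EtDesc.sect G U} (h : IsTrivSet G U σ)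
    (e : N ≃ M) : IsTrivSet G U (σ ∘ e) where
  surj g s v := by
    obtain ⟨W, k, m, hv, hm⟩ := h.surj g s v
    exact ⟨W, k, e.symm m, hv, by simpa using hm⟩
  inj g m m' hm v := e.injective (h.inj g _ _ hm v)

theorem isFinite_sigmaMap {J : Type u} {A B : J → Scheme.{u}} (q : ∀ j, A j ⟶ B j)
    (h : ∀ j, IsFinite (q j)) : IsFinite (Limits.Sigma.map q) :=
  (IsZariskiLocalAtTarget.iff_of_openCover (P := @IsFinite) (sigmaOpenCover B)).mpr fun j => by
    show IsFinite (pullback.snd (Limits.Sigma.map q) (Sigma.ι B j))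
    have sq : IsPullback (Sigma.ι A j) (q j) (Limits.Sigma.map q) (Sigma.ι B j) := by
      refine (IsOpenImmersion.isPullback (q j) (Sigma.ι A j) (Sigma.ι B j) (Limits.Sigma.map q)
        (Limits.Sigma.ι_map _ j) ?_).flip
      ext z
      constructor
      · rintro ⟨y, hy⟩
        obtain ⟨i, w, hw⟩ := (sigmaOpenCover A).exists_eq z
        change A i at w
        change Sigma.ι A i w = z at hw
        subst hw
        have h1 : Sigma.ι B i (q i w) = Sigma.ι B j y := by
          rw [hy]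
          exact (((Scheme.Hom.comp_apply _ _ _).symm.trans
            (congrArg (fun t : A i ⟶ ∐ B => t.base w) (Limits.Sigma.ι_map q i))).trans (Scheme.Hom.comp_apply _ _ _)).symm
        obtain rfl : i = j := congrArg Sigma.fst ((AlgebraicGeometry.sigmaι_eq_iff B i j _ _).1 h1)
        exact ⟨w, rfl⟩
      · rintro ⟨w, hw⟩
        subst hw
        exact ⟨q j w, ((Scheme.Hom.comp_apply _ _ _).symm.trans
          (congrArg (fun t : A j ⟶ ∐ B => t.base w) (Limits.Sigma.ι_map q j).symm)).trans (Scheme.Hom.comp_apply _ _ _)⟩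
    rw [← sq.isoPullback_inv_snd]
    have := h j
    infer_instance

theorem exists_repr {J : Type u} (U : J → S.Etale) (hU : EtCoh.Covers U) (n : J → ℕ)
    (σ : ∀ j, Fin (n j) → EtDesc.sect G (U j)) (hσ : ∀ j, IsTrivSet G (U j) (σ j)) :
    ∃ (S' T' : S.Etale) (a : T' ⟶ S') (z : EtDesc.sect G T'),
      Surjective S'.hom ∧ IsFinite a.left ∧ Repr G a z := by
  haveI : ∀ j, AlgebraicGeometry.Etale (U j).hom := fun j => (U j).prop
  let ιS : ∀ j, (U j).left ⟶ ∐ fun j => (U j).left := fun j => Sigma.ι (fun j => (U j).left) j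
  let sS : (∐ fun j => (U j).left) ⟶ S := Sigma.desc fun j => (U j).hom
  haveI : AlgebraicGeometry.Etale sS := IsZariskiLocalAtSource.sigmaDesc (fun j => (U j).prop)
  let S' : S.Etale := Scheme.Etale.mk sS
  have hιs : ∀ j, ιS j ≫ S'.hom = (U j).hom := fun j => Sigma.ι_desc _ _
  let π : ∀ j, U j ⟶ S' := fun j => MorphismProperty.Over.homMk (ιS j) (hιs j)
  have hS' : Surjective S'.hom := ⟨fun x => by
    obtain ⟨j, y, hy⟩ := hU x
    exact ⟨ιS j y, ((Scheme.Hom.comp_apply _ _ _).symm.trans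
      (congrArg (fun t : (U j).left ⟶ S => t.base y) (hιs j))).trans hy⟩⟩
  have hπinj : ∀ j j' (y : (U j).left) (y' : (U j').left), ιS j y = ιS j' y' → j = j' := fun j j' y y' h =>
    congrArg Sigma.fst ((AlgebraicGeometry.sigmaι_eq_iff (fun j => (U j).left) j j' y y').1 h)
  let Q : J → Scheme.{u} := fun j => ∐ fun _ : ULift.{u} (Fin (n j)) => (U j).left
  let fold : ∀ j, Q j ⟶ (U j).left := fun j => Sigma.desc fun _ => 𝟙 _
  have hfold : ∀ j, IsFinite (fold j) := fun j => Groth.Agent.EtCons.isFinite_codiag _ _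
  let aL : ∐ Q ⟶ ∐ fun j => (U j).left := Limits.Sigma.map fold
  let ιT : ∀ j (m : Fin (n j)), (U j).left ⟶ ∐ Q := fun j m =>
    Sigma.ι (fun _ : ULift.{u} (Fin (n j)) => (U j).left) ⟨m⟩ ≫ Sigma.ι Q j
  have hιa : ∀ j m, ιT j m ≫ aL = ιS j := fun j m => by
    simp only [ιT, aL, fold, ιS, Category.assoc, Limits.Sigma.ι_map, Sigma.ι_desc_assoc, Category.id_comp]
  haveI : AlgebraicGeometry.Etale (aL ≫ sS) := by
    have hQ : ∀ j, AlgebraicGeometry.Etale (fold j ≫ (U j).hom) := fun j => by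
      haveI : AlgebraicGeometry.Etale (fold j) :=
        IsZariskiLocalAtSource.sigmaDesc (fun _ => inferInstance)
      infer_instance
    have h1 : aL ≫ sS = Sigma.desc fun j => fold j ≫ (U j).hom := by
      refine Sigma.hom_ext _ _ fun j => ?_
      simp [aL, sS]
    rw [h1]
    exact IsZariskiLocalAtSource.sigmaDesc hQ
  let T' : S.Etale := Scheme.Etale.mk (aL ≫ sS)
  let a : T' ⟶ S' := MorphismProperty.Over.homMk aL rfl
  let τ : ∀ j (m : Fin (n j)), U j ⟶ T' := fun j m => MorphismProperty.Over.homMk (ιT j m) (by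
    change ιT j m ≫ aL ≫ sS = _
    rw [← Category.assoc, hιa]
    exact hιs j)
  have hτa : ∀ j m, τ j m ≫ a = π j := fun j m => MorphismProperty.Over.Hom.ext (hιa j m)
  have hTcov : ∀ p : T'.left, ∃ (i : Σ j, Fin (n j)), p ∈ Set.range (τ i.1 i.2).left := fun p => by
    obtain ⟨j, q, hq⟩ := (sigmaOpenCover Q).exists_eq p
    obtain ⟨⟨m⟩, y, hy⟩ := (sigmaOpenCover fun _ : ULift.{u} (Fin (n j)) => (U j).left).exists_eq q
    exact ⟨⟨j, m⟩, y, ((congrArg (Sigma.ι Q j) hy).trans hq)⟩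
  have hdisj : ∀ (i i' : Σ j, Fin (n j)) (y : (U i.1).left) (y' : (U i'.1).left),
      ιT i.1 i.2 y = ιT i'.1 i'.2 y' → i = i' := by
    rintro ⟨j, m⟩ ⟨j', m'⟩ y y' h
    obtain rfl : j = j' := by
      refine congrArg Sigma.fst ((AlgebraicGeometry.sigmaι_eq_iff Q j j'
        (Sigma.ι (fun _ : ULift.{u} (Fin (n j)) => (U j).left) ⟨m⟩ y)
        (Sigma.ι (fun _ : ULift.{u} (Fin (n j')) => (U j').left) ⟨m'⟩ y')).1 ?_)
      exact ((Scheme.Hom.comp_apply _ _ _).symm.trans h).trans (Scheme.Hom.comp_apply _ _ _)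
    have h' := (Sigma.ι Q j).injective (((Scheme.Hom.comp_apply _ _ _).symm.trans h).trans
      (Scheme.Hom.comp_apply _ _ _))
    have h'' := congrArg Sigma.fst ((AlgebraicGeometry.sigmaι_eq_iff
      (fun _ : ULift.{u} (Fin (n j)) => (U j).left) ⟨m⟩ ⟨m'⟩ y y').1 h')
    cases h''
    rfl
  obtain ⟨z, hz⟩ := exists_amalg (G := G) (P := T') (fun i : Σ j, Fin (n j) => U i.1) (fun i => τ i.1 i.2) hTcov
    (fun i => σ i.1 i.2) (fun i i' T g g' hgg => by
      by_cases hii : i = i'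
      · subst hii
        haveI : Mono (ιT i.1 i.2) := inferInstance
        have : g = g' := MorphismProperty.Over.Hom.ext
          ((cancel_mono (ιT i.1 i.2)).1 (congrArg (fun t => t.left) hgg))
        rw [this]
      · refine eq_of_eqLoc fun x => (hii (hdisj i i' (g.left x) (g'.left x) ?_)).elim
        exact ((Scheme.Hom.comp_apply _ _ _).symm.trans
          (congrArg (fun t => t.left.base x) hgg)).trans (Scheme.Hom.comp_apply _ _ _))
  refine ⟨S', T', a, z, hS', isFinite_sigmaMap fold hfold, fun W x y => ?_⟩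
  -- the part of `W` on which `y` is the section number `i`
  let E : (i : Σ j, Fin (n j)) → Set W.left := fun i =>
    {w | ∃ (W'' : S.Etale) (g : W'' ⟶ W) (k : W'' ⟶ U i.1), w ∈ Set.range g.left ∧ k ≫ π i.1 = g ≫ x ∧
      G.obj.map g.op y = G.obj.map k.op (σ i.1 i.2)}
  have hEo : ∀ i, IsOpen (E i) := fun i => isOpen_iff_forall_mem_open.mpr fun w ⟨W'', g, k, hw, h1, h2⟩ => by
    haveI := etale_left g
    exact ⟨Set.range g.left, fun w' hw' => ⟨W'', g, k, hw', h1, h2⟩, g.left.isOpenMap.isOpen_range, hw⟩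
  have hEc : ∀ w, ∃ i, w ∈ E i := fun w => by
    obtain ⟨j, q, hq⟩ := (sigmaOpenCover fun j => (U j).left).exists_eq (x.left w)
    haveI := etale_left x
    haveI : AlgebraicGeometry.Etale W.hom := W.prop
    let W₁ : S.Etale := Scheme.Etale.mk (pullback.fst x.left (ιS j) ≫ W.hom)
    let g₁ : W₁ ⟶ W := MorphismProperty.Over.homMk (pullback.fst x.left (ιS j)) rfl
    let k₁ : W₁ ⟶ U j := MorphismProperty.Over.homMk (pullback.snd x.left (ιS j)) (by
      change _ = pullback.fst x.left (ιS j) ≫ W.hom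
      rw [← MorphismProperty.Over.w x, pullback.condition_assoc]
      exact congrArg (pullback.snd x.left (ιS j) ≫ ·) (hιs j).symm)
    have hk₁ : k₁ ≫ π j = g₁ ≫ x := MorphismProperty.Over.Hom.ext pullback.condition.symm
    obtain ⟨p, hp, -⟩ := Scheme.Pullback.exists_preimage_pullback (f := x.left) (g := ιS j) w q hq.symm
    obtain ⟨W₂, h, m, ⟨p₂, hp₂⟩, hm⟩ := (hσ j).surj k₁ (G.obj.map g₁.op y) p
    refine ⟨⟨j, m⟩, W₂, h ≫ g₁, h ≫ k₁, ⟨p₂, ?_⟩, by rw [Category.assoc, hk₁, Category.assoc], ?_⟩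
    · change (h.left ≫ g₁.left) p₂ = w
      rw [Scheme.Hom.comp_apply, hp₂]
      exact hp
    · rw [← map_map, hm]
  -- local uniqueness
  have huniq : ∀ (W₃ : S.Etale) (i i' : Σ j, Fin (n j)) (k : W₃ ⟶ U i.1) (k' : W₃ ⟶ U i'.1),
      k ≫ π i.1 = k' ≫ π i'.1 → G.obj.map k.op (σ i.1 i.2) = G.obj.map k'.op (σ i'.1 i'.2) →
      ∀ _ : W₃.left, i = i' := by
    rintro W₃ ⟨j, m⟩ ⟨j', m'⟩ k k' h1 h2 w
    obtain rfl : j = j' := hπinj j j' (k.left w) (k'.left w)
      (((Scheme.Hom.comp_apply _ _ _).symm.trans (congrArg (fun t => t.left.base w) h1)).trans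
        (Scheme.Hom.comp_apply _ _ _))
    haveI : Mono (ιS j) := inferInstance
    obtain rfl : k = k' := MorphismProperty.Over.Hom.ext
      ((cancel_mono (ιS j)).1 (congrArg (fun t => t.left) h1))
    exact congrArg (Sigma.mk j) ((hσ j).inj k m m' h2 w)
  -- points of `T'`
  have hloc : ∀ (v : W ⟶ T'), v ≫ a = x → G.obj.map v.op z = y → ∀ i w, w ∈ E i →
      v.left w ∈ Set.range (τ i.1 i.2).left := fun v hv₁ hv₂ i w hw => by
    obtain ⟨W'', g, k, ⟨w'', rfl⟩, h1, h2⟩ := hw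
    obtain ⟨i', ⟨q, hq⟩⟩ := hTcov (v.left (g.left w''))
    haveI := etale_left (g ≫ v)
    haveI : AlgebraicGeometry.Etale W''.hom := W''.prop
    let W₃ : S.Etale := Scheme.Etale.mk (pullback.fst (g ≫ v).left (τ i'.1 i'.2).left ≫ W''.hom)
    let g₃ : W₃ ⟶ W'' := MorphismProperty.Over.homMk (pullback.fst _ _) rfl
    let k₃ : W₃ ⟶ U i'.1 := MorphismProperty.Over.homMk (pullback.snd (g ≫ v).left (τ i'.1 i'.2).left) (by
      change _ = pullback.fst (g ≫ v).left (τ i'.1 i'.2).left ≫ W''.hom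
      rw [← MorphismProperty.Over.w (g ≫ v), ← MorphismProperty.Over.w (τ i'.1 i'.2), pullback.condition_assoc])
    have e₃ : g₃ ≫ g ≫ v = k₃ ≫ τ i'.1 i'.2 := MorphismProperty.Over.Hom.ext pullback.condition
    obtain ⟨p, -, -⟩ := Scheme.Pullback.exists_preimage_pullback (f := (g ≫ v).left) (g := (τ i'.1 i'.2).left)
      w'' q ((Scheme.Hom.comp_apply _ _ _).trans hq.symm)
    have := huniq W₃ i i' (g₃ ≫ k) k₃ (by
      rw [← hτa i'.1 i'.2, ← Category.assoc k₃, ← e₃, Category.assoc, Category.assoc, Category.assoc, hv₁, h1])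
      (by rw [← map_map, ← h2, ← hv₂, map_map, map_map, Category.assoc, e₃, ← map_map, hz i']) p
    subst this
    exact ⟨q, hq⟩
  let O : (i : Σ j, Fin (n j)) → W.left.Opens := fun i => ⟨E i, hEo i⟩
  have hO : iSup O = ⊤ := eq_top_iff.mpr fun w _ => by
    obtain ⟨i, hi⟩ := hEc w
    exact TopologicalSpace.Opens.mem_iSup.mpr ⟨i, hi⟩
  let 𝒪 := W.left.openCoverOfIsOpenCover O hO
  -- the lift of `x` on the `i`-th part
  have hrange : ∀ i, Set.range ((O i).ι ≫ x.left) ⊆ Set.range (ιS i.1) := by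
    rintro i _ ⟨⟨w, W'', g, k, ⟨w'', rfl⟩, h1, h2⟩, rfl⟩
    exact ⟨k.left w'', ((Scheme.Hom.comp_apply _ _ _).symm.trans
      (congrArg (fun t => t.left.base w'') h1)).trans (Scheme.Hom.comp_apply _ _ _)⟩
  let l : ∀ i, (O i).toScheme ⟶ (U i.1).left := fun i => IsOpenImmersion.lift (ιS i.1) ((O i).ι ≫ x.left) (hrange i)
  have hl : ∀ i, l i ≫ ιS i.1 = (O i).ι ≫ x.left := fun i => IsOpenImmersion.lift_fac _ _ _
  have hcomp : ∀ i i', pullback.fst (O i).ι (O i').ι ≫ l i ≫ ιT i.1 i.2 =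
      pullback.snd (O i).ι (O i').ι ≫ l i' ≫ ιT i'.1 i'.2 := fun i i' => by
    by_cases hii : i = i'
    · subst hii
      rw [(cancel_mono (O i).ι).1 pullback.condition]
    · have : IsEmpty ↥(pullback (O i).ι (O i').ι) := ⟨fun p => by
        have hp : (O i).ι (pullback.fst (O i).ι (O i').ι p) = (O i').ι (pullback.snd (O i).ι (O i').ι p) :=
          ((Scheme.Hom.comp_apply _ _ _).symm.trans
            (congrArg (fun t : pullback (O i).ι (O i').ι ⟶ W.left => t.base p) pullback.condition)).trans (Scheme.Hom.comp_apply _ _ _)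
        obtain ⟨W₁, g, k, ⟨w₁, hw₁⟩, h1, h2⟩ := (pullback.fst (O i).ι (O i').ι p).2
        obtain ⟨W₂, g', k', ⟨w₂, hw₂⟩, h1', h2'⟩ := (pullback.snd (O i).ι (O i').ι p).2
        obtain ⟨P, c, d, hcd, hP⟩ := exists_fibreProd g g'
        obtain ⟨w₃, -, -⟩ := hP w₁ w₂ (hw₁.trans (hp.trans hw₂.symm))
        exact hii (huniq P i i' (c ≫ k) (d ≫ k')
          (by rw [Category.assoc, Category.assoc, h1, h1', ← Category.assoc, hcd, Category.assoc])
          (by rw [← map_map, ← h2, map_map, hcd, ← map_map, h2', map_map]) w₃)⟩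
      exact (isInitialOfIsEmpty).hom_ext _ _
  let vL : W.left ⟶ ∐ Q := 𝒪.glueMorphisms (fun i => l i ≫ ιT i.1 i.2) hcomp
  have hvL : ∀ i, (O i).ι ≫ vL = l i ≫ ιT i.1 i.2 := fun i => 𝒪.ι_glueMorphisms _ hcomp i
  have hvx : vL ≫ aL = x.left := 𝒪.hom_ext _ _ fun i => by
    change (O i).ι ≫ vL ≫ aL = (O i).ι ≫ x.left
    rw [← Category.assoc, hvL, Category.assoc, hιa, hl]
  let v : W ⟶ T' := MorphismProperty.Over.homMk vL (by
    change vL ≫ aL ≫ sS = W.hom
    rw [← Category.assoc, hvx]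
    exact MorphismProperty.Over.w x)
  haveI : AlgebraicGeometry.Etale W.hom := W.prop
  refine ⟨v, ⟨MorphismProperty.Over.Hom.ext hvx, eq_of_eqLoc fun w => ?_⟩, ?_⟩
  · obtain ⟨i, hi⟩ := hEc w
    obtain ⟨W'', g, k, ⟨w'', hw''⟩, h1, h2⟩ := id hi
    haveI := etale_left g
    haveI : AlgebraicGeometry.Etale W''.hom := W''.prop
    let W₄ : S.Etale := Scheme.Etale.mk (pullback.fst g.left (O i).ι ≫ W''.hom)
    let g₄ : W₄ ⟶ W'' := MorphismProperty.Over.homMk (pullback.fst g.left (O i).ι) rfl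
    have e₄ : (g₄ ≫ g) ≫ v = (g₄ ≫ k) ≫ τ i.1 i.2 := MorphismProperty.Over.Hom.ext (by
      change (pullback.fst g.left (O i).ι ≫ g.left) ≫ vL = (pullback.fst g.left (O i).ι ≫ k.left) ≫ ιT i.1 i.2
      rw [pullback.condition, Category.assoc, hvL, ← Category.assoc]
      congr 1
      rw [← cancel_mono (ιS i.1), Category.assoc, hl, Category.assoc, show k.left ≫ ιS i.1 = g.left ≫ x.left from
        congrArg (fun t => t.left) h1, ← Category.assoc, ← pullback.condition, Category.assoc])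
    obtain ⟨p, hp, -⟩ := Scheme.Pullback.exists_preimage_pullback (f := g.left) (g := (O i).ι) w'' ⟨w, hi⟩ hw''
    refine ⟨W₄, g₄ ≫ g, ⟨p, ?_⟩, ?_⟩
    · change (g₄.left ≫ g.left) p = w
      rw [Scheme.Hom.comp_apply]
      exact (congrArg g.left hp).trans hw''
    · rw [map_map, e₄, ← map_map, hz i, ← map_map G k g₄, ← h2, map_map]
  · rintro v' ⟨hv'₁, hv'₂⟩
    refine MorphismProperty.Over.Hom.ext (𝒪.hom_ext _ _ fun i => ?_)
    change (O i).ι ≫ v'.left = (O i).ι ≫ vL
    haveI : IsOpenImmersion (ιT i.1 i.2) := inferInstance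
    have hr : Set.range ((O i).ι ≫ v'.left) ⊆ Set.range (ιT i.1 i.2) := by
      rintro _ ⟨⟨w, hw⟩, rfl⟩
      exact hloc v' hv'₁ hv'₂ i w hw
    rw [hvL, ← IsOpenImmersion.lift_fac (ιT i.1 i.2) _ hr]
    congr 1
    rw [← cancel_mono (ιS i.1), hl, ← hιa i.1 i.2, ← Category.assoc, IsOpenImmersion.lift_fac, Category.assoc]
    exact congrArg ((O i).ι ≫ ·) (congrArg (fun t => t.left) hv'₁)

/-- Representability of finite locally trivial sheaves of sets. -/
theorem exists_finite_repSh (hG : ∀ x : S, ∃ (U : S.Etale) (u : U.left) (n : ℕ) (σ : Fin n → EtDesc.sect G U),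
      U.hom u = x ∧ IsTrivSet G U σ) :
    ∃ U : S.Etale, IsFinite U.hom ∧ Nonempty ((yoneda.obj U ⋙ uliftFunctor.{u + 1, u}) ≅ G.obj) := by
  choose U y n σ hy hσ using hG
  obtain ⟨S', T', a, z, hS', ha, hb⟩ := exists_repr (J := S) U (fun x => ⟨x, y x, hy x⟩) n σ hσ
  exact exists_rep hb

end Groth.Agent.EtDescRep
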