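import Groth.Agent.EtShLib.Loc
import Groth.Agent.SchDescent.SheafDescAffine
import Groth.Agent.FpqcDescent.Props
import Groth.Prelude.Def_EtOpen

/-!
Sheaves of sets on the small etale site that are represented by a finite scheme over an etale
surjective object are represented by a finite etale scheme.
-/

set_option autoImplicit false
set_option backward.isDefEq.respectTransparency false
set_option linter.style.haveILetI false

universe u

open CategoryTheory CategoryTheory.Limits AlgebraicGeometry Opposite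

noncomputable section

namespace Groth.Agent.EtDescRep

open EtShLib

variable {S : Scheme.{u}} (G : EtDesc.Sh S)

/-- `(a, z)` exhibits `T'` as the product of `G` and `S'`. -/
def Repr {S' T' : S.Etale} (a : T' ⟶ S') (z : EtDesc.sect G T') : Prop :=
  ∀ (W : S.Etale) (x : W ⟶ S') (y : EtDesc.sect G W), ∃! v : W ⟶ T', v ≫ a = x ∧ G.obj.map v.op z = y

variable {G}

section

variable {S' T' : S.Etale} (a : T' ⟶ S') (z : EtDesc.sect G T')

/-- two points of `T'` with the same section -/
def Same {T : Scheme.{u}} (v w : T ⟶ T'.left) : Prop :=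
  ∃ (W : S.Etale) (k : T ⟶ W.left) (v' w' : W ⟶ T'),
    k ≫ v'.left = v ∧ k ≫ w'.left = w ∧ G.obj.map v'.op z = G.obj.map w'.op z

variable {z}

lemma Same.refl {T : Scheme.{u}} (v : T ⟶ T'.left) : Same z v v :=
  ⟨T', v, 𝟙 T', 𝟙 T', Category.comp_id v, Category.comp_id v, rfl⟩

lemma Same.symm {T : Scheme.{u}} {v w : T ⟶ T'.left} (h : Same z v w) : Same z w v := by
  obtain ⟨W, k, v', w', hv, hw, e⟩ := h
  exact ⟨W, k, w', v', hw, hv, e.symm⟩

lemma Same.comp {T T₀ : Scheme.{u}} (g : T₀ ⟶ T) {v w : T ⟶ T'.left} (h : Same z v w) :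
    Same z (g ≫ v) (g ≫ w) := by
  obtain ⟨W, k, v', w', hv, hw, e⟩ := h
  exact ⟨W, g ≫ k, v', w', by rw [Category.assoc, hv], by rw [Category.assoc, hw], e⟩

lemma Same.trans {T : Scheme.{u}} {u₁ v w : T ⟶ T'.left} (h : Same z u₁ v) (h' : Same z v w) :
    Same z u₁ w := by
  obtain ⟨W, k, u', v', hu, hv, e⟩ := h
  obtain ⟨W', k', v'', w', hv', hw, e'⟩ := h'
  haveI := etale_left v'
  haveI := etale_left v''
  haveI := W.prop
  let P : S.Etale := Scheme.Etale.mk (pullback.fst v'.left v''.left ≫ W.hom)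
  let p : P ⟶ W := MorphismProperty.Over.homMk (pullback.fst v'.left v''.left) rfl
  let q : P ⟶ W' := MorphismProperty.Over.homMk (pullback.snd v'.left v''.left) (by
    change _ = pullback.fst v'.left v''.left ≫ W.hom
    rw [← MorphismProperty.Over.w v', ← MorphismProperty.Over.w v'', pullback.condition_assoc])
  have hpq : p ≫ v' = q ≫ v'' := MorphismProperty.Over.Hom.ext pullback.condition
  refine ⟨P, pullback.lift k k' (hv.trans hv'.symm), p ≫ u', q ≫ w', ?_, ?_, ?_⟩
  · change pullback.lift k k' _ ≫ pullback.fst v'.left v''.left ≫ u'.left = _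
    rw [pullback.lift_fst_assoc, hu]
  · change pullback.lift k k' _ ≫ pullback.snd v'.left v''.left ≫ w'.left = _
    rw [pullback.lift_snd_assoc, hw]
  · rw [← map_map G u' p, e, map_map, hpq, ← map_map G v'' q, e', map_map]

lemma Same.map_eq {W : S.Etale} {v w : W ⟶ T'} (h : Same z v.left w.left) :
    G.obj.map v.op z = G.obj.map w.op z := by
  obtain ⟨W', k, v', w', hv, hw, e⟩ := h
  let c : W ⟶ W' := MorphismProperty.Over.homMk k (by
    rw [← MorphismProperty.Over.w v', ← Category.assoc, hv]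
    exact MorphismProperty.Over.w v)
  have h1 : c ≫ v' = v := MorphismProperty.Over.Hom.ext hv
  have h2 : c ≫ w' = w := MorphismProperty.Over.Hom.ext hw
  rw [← h1, ← h2, ← map_map, ← map_map, e]

lemma same_of_eq {W : S.Etale} {v w : W ⟶ T'} (h : G.obj.map v.op z = G.obj.map w.op z) :
    Same z v.left w.left :=
  ⟨W, 𝟙 _, v, w, Category.id_comp _, Category.id_comp _, h⟩

variable {a} (hb : Repr G a z)

include hb in
lemma Repr.ext {W : S.Etale} {v w : W ⟶ T'} (ha : v ≫ a = w ≫ a)
    (h : G.obj.map v.op z = G.obj.map w.op z) : v = w :=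
  (hb W (w ≫ a) (G.obj.map w.op z)).unique ⟨ha, h⟩ ⟨rfl, rfl⟩

include hb in
lemma Same.eq {T : Scheme.{u}} {v w : T ⟶ T'.left} (h : Same z v w) (ha : v ≫ a.left = w ≫ a.left) :
    v = w := by
  obtain ⟨W, k, v', w', hv, hw, e⟩ := h
  haveI := S'.prop
  haveI := W.prop
  let g : W.left ⟶ pullback S'.hom S'.hom := pullback.lift (v' ≫ a).left (w' ≫ a).left
    ((MorphismProperty.Over.w (v' ≫ a)).trans (MorphismProperty.Over.w (w' ≫ a)).symm)
  haveI : AlgebraicGeometry.Etale (pullback.diagonal S'.hom) := inferInstance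
  let E : S.Etale := Scheme.Etale.mk (pullback.fst g (pullback.diagonal S'.hom) ≫ W.hom)
  let ε : E ⟶ W := MorphismProperty.Over.homMk (pullback.fst g (pullback.diagonal S'.hom)) rfl
  have hε : (ε ≫ v') ≫ a = (ε ≫ w') ≫ a := by
    have h1 := pullback.condition (f := g) (g := pullback.diagonal S'.hom)
    have h2 := congrArg (· ≫ pullback.fst S'.hom S'.hom) h1
    have h3 := congrArg (· ≫ pullback.snd S'.hom S'.hom) h1
    simp only [g, Category.assoc, pullback.lift_fst, pullback.lift_snd, pullback.diagonal_fst,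
      pullback.diagonal_snd] at h2 h3
    refine MorphismProperty.Over.Hom.ext ?_
    change (pullback.fst g (pullback.diagonal S'.hom) ≫ v'.left) ≫ a.left =
      (pullback.fst g (pullback.diagonal S'.hom) ≫ w'.left) ≫ a.left
    rw [Category.assoc, Category.assoc]
    exact h2.trans h3.symm
  have h4 : ε ≫ v' = ε ≫ w' := hb.ext hε (by rw [← map_map G v' ε, e, map_map])
  have hk : k ≫ g = (k ≫ (v' ≫ a).left) ≫ pullback.diagonal S'.hom := by
    apply pullback.hom_ext
    · simp [g]
    · simp only [g, Category.assoc, pullback.lift_snd, pullback.diagonal_snd, Category.comp_id]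
      change k ≫ w'.left ≫ a.left = k ≫ v'.left ≫ a.left
      rw [reassoc_of% hv, reassoc_of% hw, ha]
  have h5 := congrArg (pullback.lift k (k ≫ (v' ≫ a).left) hk ≫ ·) (congrArg (fun m => m.left) h4)
  change pullback.lift k _ hk ≫ pullback.fst g _ ≫ v'.left = pullback.lift k _ hk ≫ pullback.fst g _ ≫ w'.left at h5
  rw [pullback.lift_fst_assoc, pullback.lift_fst_assoc] at h5
  rwa [hv, hw] at h5

include hb in
lemma exists_same {T : Scheme.{u}} (v : T ⟶ T'.left) (x : T ⟶ S'.left) (h : x ≫ S'.hom = v ≫ T'.hom) :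
    ∃ w, w ≫ a.left = x ∧ Same z v w := by
  haveI := S'.prop
  haveI := T'.prop
  let W : S.Etale := Scheme.Etale.mk (pullback.fst S'.hom T'.hom ≫ S'.hom)
  let p : W ⟶ S' := MorphismProperty.Over.homMk (pullback.fst S'.hom T'.hom) rfl
  let q : W ⟶ T' := MorphismProperty.Over.homMk (pullback.snd S'.hom T'.hom) pullback.condition.symm
  obtain ⟨w', ⟨hw₁, hw₂⟩, -⟩ := hb W p (G.obj.map q.op z)
  refine ⟨pullback.lift x v h ≫ w'.left, ?_, W, pullback.lift x v h, q, w', pullback.lift_snd _ _ _,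
    rfl, hw₂.symm⟩
  have this : w'.left ≫ a.left = pullback.fst S'.hom T'.hom := congrArg (fun m => m.left) hw₁
  rw [Category.assoc, this]
  exact pullback.lift_fst _ _ _

include hb in
lemma exists_move {T : Scheme.{u}} (x₀ x₁ : T ⟶ S'.left) (h : x₀ ≫ S'.hom = x₁ ≫ S'.hom)
    (v : Desc.Lifts (Over.mk a.left) x₀) : ∃ w, w ≫ a.left = x₁ ∧ Same z v.1 w := by
  refine exists_same hb v.1 x₁ ?_
  refine (h.symm.trans (congrArg (· ≫ S'.hom) v.2.symm)).trans ?_
  exact (Category.assoc _ _ _).trans (congrArg (v.1 ≫ ·) (MorphismProperty.Over.w a))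

/-- the transport -/
def move {T : Scheme.{u}} (x₀ x₁ : T ⟶ S'.left) (h : x₀ ≫ S'.hom = x₁ ≫ S'.hom)
    (v : Desc.Lifts (Over.mk a.left) x₀) : Desc.Lifts (Over.mk a.left) x₁ :=
  ⟨(exists_move hb x₀ x₁ h v).choose, (exists_move hb x₀ x₁ h v).choose_spec.1⟩

lemma move_same {T : Scheme.{u}} (x₀ x₁ : T ⟶ S'.left) (h : x₀ ≫ S'.hom = x₁ ≫ S'.hom)
    (v : Desc.Lifts (Over.mk a.left) x₀) : Same z v.1 (move hb x₀ x₁ h v).1 :=
  (exists_move hb x₀ x₁ h v).choose_spec.2

include hb in
lemma lifts_ext {T : Scheme.{u}} {x : T ⟶ S'.left} {v w : Desc.Lifts (Over.mk a.left) x}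
    (h : Same z v.1 w.1) : v = w := Subtype.ext (h.eq hb (v.2.trans w.2.symm))

/-- the descent datum -/
def datum : Desc.SchDD S'.hom where
  obj := Over.mk a.left
  φ T x₀ x₁ h :=
    { toFun := move hb x₀ x₁ h
      invFun := move hb x₁ x₀ h.symm
      left_inv := fun v ↦ lifts_ext hb ((move_same hb _ _ _ v).trans (move_same hb _ _ _ _)).symm
      right_inv := fun v ↦ lifts_ext hb ((move_same hb _ _ _ v).trans (move_same hb _ _ _ _)).symm }
  φ_natural T T₀ g x₀ x₁ h h' v v' hv := by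
    let w : Desc.Lifts (Over.mk a.left) (g ≫ x₁) :=
      ⟨g ≫ (move hb x₀ x₁ h v).1, by rw [Category.assoc, (move hb x₀ x₁ h v).2]⟩
    exact congrArg Subtype.val (lifts_ext hb (w := w) ((move_same hb _ _ h' v').symm.trans
      (hv.symm ▸ (move_same hb x₀ x₁ h v).comp g)))
  φ_self T x v := lifts_ext hb (move_same hb _ _ rfl v).symm
  φ_comp T x₀ x₁ x₂ h h' v := lifts_ext hb
    (((move_same hb _ _ h v).trans (move_same hb _ _ h' _)).symm.trans (move_same hb x₀ x₂ (h.trans h') v))

end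

theorem exists_rep {S' T' : S.Etale} {a : T' ⟶ S'} {z : EtDesc.sect G T'} (hb : Repr G a z)
    [Surjective S'.hom] [IsFinite a.left] :
    ∃ U : S.Etale, IsFinite U.hom ∧ Nonempty ((yoneda.obj U ⋙ uliftFunctor.{u + 1, u}) ≅ G.obj) := by
  haveI := S'.prop
  haveI := T'.prop
  let f := S'.hom
  haveI : IsAffineHom (datum hb).obj.hom := inferInstanceAs (IsAffineHom a.left)
  obtain ⟨U, hU, ⟨e⟩⟩ := SchDescent.SheafDesc.effective_fppf f (datum hb)
  let P := pullback f U.hom
  let el : P ⟶ T'.left := Over.Hom.left (Desc.SchDD.Hom.hom e.hom)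
  let el' : T'.left ⟶ P := Over.Hom.left (Desc.SchDD.Hom.hom e.inv)
  have hel : el ≫ a.left = pullback.fst _ _ := Over.w e.hom.hom
  have hel' : el' ≫ pullback.fst _ _ = a.left := Over.w e.inv.hom
  have hi : el ≫ el' = 𝟙 _ := congrArg
    (fun k : (Desc.toDD f).obj U ⟶ (Desc.toDD f).obj U ↦ k.hom.left) e.hom_inv_id
  have hi' : el' ≫ el = 𝟙 _ := congrArg (fun k : datum hb ⟶ datum hb ↦ k.hom.left) e.inv_hom_id
  haveI : IsIso el := ⟨el', hi, hi'⟩
  haveI := etale_left a
  have hfin : IsFinite (pullback.fst f U.hom) := by rw [← hel]; infer_instance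
  have het : AlgebraicGeometry.Etale (pullback.fst f U.hom) := by rw [← hel]; infer_instance
  haveI hUfin : IsFinite U.hom :=
    MorphismProperty.of_pullback_fst_of_descendsAlong
      (Q := (@Surjective ⊓ @Flat ⊓ @LocallyOfFinitePresentation : MorphismProperty Scheme.{u}))
      ⟨⟨inferInstance, inferInstance⟩, inferInstance⟩ hfin
  haveI hUet : AlgebraicGeometry.Etale U.hom :=
    MorphismProperty.of_pullback_fst_of_descendsAlong
      (Q := (@Surjective ⊓ @Flat ⊓ @LocallyOfFinitePresentation : MorphismProperty Scheme.{u}))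
      ⟨⟨inferInstance, inferInstance⟩, inferInstance⟩ het
  let U' : S.Etale := Scheme.Etale.mk U.hom
  have haw : a.left ≫ f = T'.hom := MorphismProperty.Over.w a
  have helT : el ≫ T'.hom = pullback.snd f U.hom ≫ U.hom := by
    rw [← haw, reassoc_of% hel, pullback.condition]
  have hsame : ∀ {T : Scheme.{u}} (k k' : T ⟶ P), k ≫ pullback.snd _ _ = k' ≫ pullback.snd _ _ →
      Same z (k ≫ el) (k' ≫ el) := by
    intro T k k' h
    have hx : (k ≫ pullback.fst _ _) ≫ f = (k' ≫ pullback.fst _ _) ≫ f := by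
      rw [Category.assoc, Category.assoc, pullback.condition, reassoc_of% h]
    let V : Desc.Lifts ((Desc.toDD f).obj U).obj (k ≫ pullback.fst _ _) := ⟨k, rfl⟩
    have h1 : (((Desc.toDD f).obj U).φ _ _ hx V).1 = k' :=
      pullback.hom_ext (pullback.lift_fst _ _ _) ((pullback.lift_snd _ _ _).trans h)
    have h2 := e.hom.comm _ _ hx V (e.hom.push V) rfl
    rw [h1] at h2
    have h3 := move_same hb _ _ hx (e.hom.push V)
    change (move hb _ _ hx (e.hom.push V)).1 = k' ≫ el at h2
    rwa [h2] at h3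
  haveI : AlgebraicGeometry.Etale (pullback.snd f U.hom) := inferInstance
  let P' : S.Etale := Scheme.Etale.mk (pullback.snd f U.hom ≫ U.hom)
  let q : P' ⟶ U' := MorphismProperty.Over.homMk (pullback.snd f U.hom) rfl
  let v₀ : P' ⟶ T' := MorphismProperty.Over.homMk el helT
  have hqs : Function.Surjective q.left := (pullback.snd f U.hom).surjective
  obtain ⟨ψ, hψ⟩ := exists_amalg (G := G) (fun _ : Unit => P') (fun _ => q)
    (fun p => ⟨(), hqs p⟩) (fun _ => G.obj.map v₀.op z) (fun _ _ T g g' hgg => by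
      rw [map_map, map_map]
      refine Same.map_eq ?_
      exact hsame g.left g'.left (congrArg (fun m => m.left) hgg))
  have hψ := hψ ()
  have key : ∀ {W : S.Etale} (u : W ⟶ U') (k : W ⟶ P'), k ≫ q = u →
      G.obj.map u.op ψ = G.obj.map (k ≫ v₀).op z := fun u k h ↦ by
    rw [← h, ← map_map, hψ, map_map]
  have inj : ∀ (W : S.Etale) (u u' : W ⟶ U'), G.obj.map u.op ψ = G.obj.map u'.op ψ → u = u' := by
    intro W u u' h
    haveI := W.prop
    let x := pullback.fst f W.hom
    let π := pullback.snd f W.hom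
    let W' : S.Etale := Scheme.Etale.mk (π ≫ W.hom)
    let qW : W' ⟶ W := MorphismProperty.Over.homMk π rfl
    have hku : ∀ u : W ⟶ U', x ≫ f = (π ≫ u.left) ≫ U.hom := fun u ↦ by
      rw [Category.assoc, show u.left ≫ U.hom = W.hom from MorphismProperty.Over.w u]
      exact pullback.condition
    let k : ∀ u : W ⟶ U', W' ⟶ P' := fun u ↦ MorphismProperty.Over.homMk
      (pullback.lift x (π ≫ u.left) (hku u)) (by
      change pullback.lift _ _ _ ≫ pullback.snd f U.hom ≫ U.hom = π ≫ W.hom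
      rw [pullback.lift_snd_assoc, Category.assoc, show u.left ≫ U.hom = W.hom from MorphismProperty.Over.w u])
    have hk : ∀ u : W ⟶ U', k u ≫ q = qW ≫ u :=
      fun u ↦ MorphismProperty.Over.Hom.ext (pullback.lift_snd _ _ _)
    have h2 : G.obj.map (k u ≫ v₀).op z = G.obj.map (k u' ≫ v₀).op z := by
      rw [← key _ _ (hk u), ← key _ _ (hk u'), ← map_map, h, map_map]
    have h3 : k u ≫ v₀ = k u' ≫ v₀ := hb.ext (MorphismProperty.Over.Hom.ext (by
      change (pullback.lift x (π ≫ u.left) _ ≫ el) ≫ a.left = (pullback.lift x (π ≫ u'.left) _ ≫ el) ≫ a.left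
      rw [Category.assoc, hel, Category.assoc, hel, pullback.lift_fst, pullback.lift_fst])) h2
    have h4 := congrArg (fun v : W' ⟶ T' ↦ v.left ≫ el' ≫ pullback.snd f U.hom) h3
    change (pullback.lift x (π ≫ u.left) _ ≫ el) ≫ el' ≫ _ = (pullback.lift x (π ≫ u'.left) _ ≫ el) ≫ el' ≫ _ at h4
    simp only [Category.assoc, reassoc_of% hi, pullback.lift_snd] at h4
    haveI : Epi π := Flat.epi_of_flat_of_surjective _
    exact MorphismProperty.Over.Hom.ext ((cancel_epi π).mp h4)
  refine ⟨U', hUfin, ⟨?_⟩⟩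
  refine NatIso.ofComponents (fun W => (Equiv.ofBijective
    (fun u : ULift.{u + 1} (W.unop ⟶ U') => G.obj.map u.down.op ψ) ⟨fun u u' h => ?_, fun y => ?_⟩).toIso)
    (fun {W W'} g => ConcreteCategory.hom_ext _ _ fun u => (map_map G u.down g.unop ψ).symm)
  · exact ULift.ext _ _ (inj _ _ _ h)
  let W₀ : S.Etale := W.unop
  haveI : AlgebraicGeometry.Etale W₀.hom := W₀.prop
  let π := pullback.snd f W₀.hom
  let W' : S.Etale := Scheme.Etale.mk (π ≫ W₀.hom)
  let qW : W' ⟶ W₀ := MorphismProperty.Over.homMk π rfl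
  let xW : W' ⟶ S' := MorphismProperty.Over.homMk (pullback.fst f W₀.hom) pullback.condition
  obtain ⟨v, ⟨hv, hz⟩, -⟩ := hb W' xW (G.obj.map qW.op y)
  let k : W' ⟶ P' := MorphismProperty.Over.homMk (v.left ≫ el') (by
    change (v.left ≫ el') ≫ pullback.snd f U.hom ≫ U.hom = π ≫ W₀.hom
    rw [Category.assoc, ← pullback.condition, reassoc_of% hel', haw]
    exact MorphismProperty.Over.w v)
  have hkv : k ≫ v₀ = v := MorphismProperty.Over.Hom.ext (by
    change (v.left ≫ el') ≫ el = v.left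
    rw [Category.assoc, hi', Category.comp_id])
  have hk : G.obj.map (k ≫ q).op ψ = G.obj.map qW.op y := by rw [key _ k rfl, hkv, hz]
  have hπ := Scheme.fppfPrecoverage_le_fpqcPrecoverage _ π.singleton_mem_fppfPrecoverage
  obtain ⟨u₀, hu₀, -⟩ := SchDescent.existsUnique_glue_singleton hπ (k ≫ q).left (by
    let R : S.Etale := Scheme.Etale.mk (pullback.fst π π ≫ π ≫ W₀.hom)
    let s : R ⟶ W' := MorphismProperty.Over.homMk (pullback.fst π π) rfl
    let t : R ⟶ W' := MorphismProperty.Over.homMk (pullback.snd π π) (by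
      change pullback.snd π π ≫ π ≫ W₀.hom = pullback.fst π π ≫ π ≫ W₀.hom
      rw [← pullback.condition_assoc])
    have hst : s ≫ qW = t ≫ qW := MorphismProperty.Over.Hom.ext pullback.condition
    refine congrArg (fun m => m.left) (inj R (s ≫ k ≫ q) (t ≫ k ≫ q) ?_)
    rw [← map_map G (k ≫ q) s, ← map_map G (k ≫ q) t, hk, map_map, map_map, hst])
  haveI : Epi π := Flat.epi_of_flat_of_surjective _
  let u : W₀ ⟶ U' := MorphismProperty.Over.homMk u₀ ((cancel_epi π).mp (by
    rw [reassoc_of% hu₀]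
    exact MorphismProperty.Over.w (k ≫ q)))
  have hu : qW ≫ u = k ≫ q := MorphismProperty.Over.Hom.ext hu₀
  refine ⟨⟨u⟩, eq_of_eqLoc fun w => ⟨W', qW, π.surjective w, ?_⟩⟩
  rw [map_map, hu, hk]

/-- the representable sheaf of an object is the sheafified one -/
def repShIso {U : S.Etale} (e : (yoneda.obj U ⋙ uliftFunctor.{u + 1, u}) ≅ G.obj) : EtDesc.repSh U ≅ G :=
  (presheafToSheaf S.smallEtaleTopology (Type (u + 1))).mapIso e ≪≫ (sheafificationIso G).symm

end Groth.Agent.EtDescRep
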