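import Groth.Agent.EtDescRep.Local
import Groth.Agent.EtFLC.Triv
import Groth.Prelude.Def_CohProp

/-!
A sheaf of sets is constant on an object exactly when a family of sections trivialises it.
-/

set_option autoImplicit false
set_option backward.isDefEq.respectTransparency false
set_option linter.style.haveILetI false

universe u

open CategoryTheory CategoryTheory.Limits AlgebraicGeometry Opposite

noncomputable section

namespace Groth.Agent.EtDescRep

open EtShLib

variable {X : Scheme.{u}} (U : X.Etale) (M : Type (u + 1))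

local notation "JU" => GrothendieckTopology.over X.smallEtaleTopology U

/-- the constant presheaf on the site over `U` -/
abbrev cPre : (Over U)ᵒᵖ ⥤ Type (u + 1) := (Functor.const _).obj M

/-- the map of presheaves given by a family of sections -/
def psi (G : EtDesc.Sh X) (σ : M → EtDesc.sect G U) : cPre U M ⟶ (G.over U).obj where
  app V := ↾(fun m => G.obj.map V.unop.hom.op (σ m))
  naturality V W k := ConcreteCategory.hom_ext _ _ fun m => by
    change G.obj.map W.unop.hom.op (σ m) = G.obj.map k.unop.left.op (G.obj.map V.unop.hom.op (σ m))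
    rw [map_map, Over.w]

variable {U M}

theorem isIso_descTriv {G : EtDesc.Sh X} {σ : M → EtDesc.sect G U} (h : IsTrivSet G U σ) :
    Nonempty (G.over U ≅ (presheafToSheaf (JU) (Type (u + 1))).obj (cPre U M)) := by
  have hinj : Presheaf.IsLocallyInjective (JU) (psi U M G σ) := ⟨fun {V} x y hxy => by
    refine EtFLC.mem_over U _ fun v => ⟨V.unop, 𝟙 _, v, ?_, rfl⟩
    change (cPre U M).map (𝟙 _).op x = (cPre U M).map (𝟙 _).op y
    rw [h.inj V.unop.hom x y hxy v]⟩
  have hsurj : Presheaf.IsLocallySurjective (JU) (psi U M G σ) := ⟨fun {V} s => by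
    refine EtFLC.mem_over U _ fun v => ?_
    obtain ⟨W, k, m, ⟨w, hw⟩, hm⟩ := h.surj V.hom s v
    exact ⟨Over.mk (k ≫ V.hom), Over.homMk k, w, ⟨m, hm.symm⟩, hw⟩⟩
  have hW : (JU).W (psi U M G σ) := (JU).W_of_isLocallyBijective _
  haveI : IsIso ((presheafToSheaf (JU) (Type (u + 1))).map (psi U M G σ)) := ((JU).W_iff _).1 hW
  exact ⟨(asIso ((presheafToSheaf (JU) (Type (u + 1))).map (psi U M G σ)) ≪≫
    (sheafificationIso (G.over U)).symm).symm⟩

variable (U M)

theorem isTrivSet_const : IsTrivSet (CohProp.constSh X M) U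
    (fun m : M => (toSheafify X.smallEtaleTopology ((Functor.const X.Etaleᵒᵖ).obj M)).app (op U) m) := by
  let P : X.Etaleᵒᵖ ⥤ Type (u + 1) := (Functor.const X.Etaleᵒᵖ).obj M
  let η := toSheafify X.smallEtaleTopology P
  have hb := ((X.smallEtaleTopology).W_iff_isLocallyBijective η).1 ((X.smallEtaleTopology).W_toSheafify P)
  haveI := hb.1
  haveI := hb.2
  have hη : ∀ {V : X.Etale} (g : V ⟶ U) (m : M),
      (CohProp.constSh X M).obj.map g.op (η.app (op U) m) = η.app (op V) m :=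
    fun {V} g m => (ConcreteCategory.congr_hom (η.naturality g.op) m).symm
  refine ⟨fun {V} g s v => ?_, fun {V} g m m' hm v => ?_⟩
  · obtain ⟨W, k, w, ⟨m, hm⟩, hw⟩ :=
      (EtFLC.mem_iff _).1 (Presheaf.imageSieve_mem X.smallEtaleTopology η (U := op V) s) v
    exact ⟨W, k, m, ⟨w, hw⟩, hm.symm.trans (hη (k ≫ g) m).symm⟩
  · have hm' : η.app (op V) m = η.app (op V) m' := by rw [← hη g, ← hη g]; exact hm
    obtain ⟨W, k, -, hk, -⟩ := (EtFLC.mem_iff _).1 (Presheaf.equalizerSieve_mem X.smallEtaleTopology η m m' hm') v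
    exact hk

variable {U M}

/-- trivialisations transport along isomorphisms on the object -/
theorem exists_triv {G H : EtDesc.Sh X} (e : G.over U ≅ H.over U) {σ : M → EtDesc.sect H U}
    (h : IsTrivSet H U σ) : ∃ τ : M → EtDesc.sect G U, IsTrivSet G U τ := by
  let f := ((sheafToPresheaf _ _).mapIso e)
  let i : ∀ {V : X.Etale} (_ : V ⟶ U), EtDesc.sect G V ≃ EtDesc.sect H V := fun {V} g =>
    (f.app (op (Over.mk g))).toEquiv
  have hn : ∀ {V W : X.Etale} (g : V ⟶ U) (k : W ⟶ V) (s : EtDesc.sect G V),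
      i (k ≫ g) (G.obj.map k.op s) = H.obj.map k.op (i g s) := fun g k s =>
    ConcreteCategory.congr_hom (f.hom.naturality (Over.homMk k : Over.mk (k ≫ g) ⟶ Over.mk g).op) s
  let τ : M → EtDesc.sect G U := fun m => (i (𝟙 U)).symm (σ m)
  have hτ : ∀ {V : X.Etale} (g : V ⟶ U) (m : M), i g (G.obj.map g.op (τ m)) = H.obj.map g.op (σ m) := by
    intro V g m
    have := hn (𝟙 U) g (τ m)
    rw [Category.comp_id] at this
    rw [this, Equiv.apply_symm_apply]
  refine ⟨τ, fun {V} g s v => ?_, fun {V} g m m' hm v => ?_⟩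
  · obtain ⟨W, k, m, hv, hm⟩ := h.surj g (i g s) v
    exact ⟨W, k, m, hv, (i (k ≫ g)).injective (by rw [hn, hm, hτ])⟩
  · exact h.inj g m m' (by rw [← hτ, ← hτ, hm]) v

theorem nonempty_over_iso {G : EtDesc.Sh X} {σ : M → EtDesc.sect G U} (h : IsTrivSet G U σ) :
    Nonempty (G.over U ≅ (CohProp.constSh X M).over U) := by
  obtain ⟨e⟩ := isIso_descTriv h
  obtain ⟨e'⟩ := isIso_descTriv (isTrivSet_const U M)
  exact ⟨e ≪≫ e'.symm⟩

/-- A finite etale scheme is locally split, hence its sheaf of points is locally trivial. -/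
theorem exists_triv_repSh {S Y : Scheme.{u}} (f : Y ⟶ S) [AlgebraicGeometry.Etale f]
    {V : S.Etale} {n : ℕ} (a : Fin n → (V ⟶ Scheme.Etale.mk f))
    (hsurj : ∀ {W : S.Etale} (g : W ⟶ V) (s : W ⟶ Scheme.Etale.mk f) (w : W.left),
      ∃ (Z : S.Etale) (k : Z ⟶ W) (i : Fin n), w ∈ Set.range k.left ∧ k ≫ s = k ≫ g ≫ a i)
    (hinj : ∀ {W : S.Etale} (g : W ⟶ V) (i j : Fin n), g ≫ a i = g ≫ a j → ∀ _ : W.left, i = j) :
    ∃ σ : Fin n → EtDesc.sect (EtDesc.repSh (Scheme.Etale.mk f)) V,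
      IsTrivSet (EtDesc.repSh (Scheme.Etale.mk f)) V σ := by
  let P : S.Etaleᵒᵖ ⥤ Type (u + 1) := yoneda.obj (Scheme.Etale.mk f) ⋙ uliftFunctor.{u + 1, u}
  let η := toSheafify S.smallEtaleTopology P
  have hb := ((S.smallEtaleTopology).W_iff_isLocallyBijective η).1 ((S.smallEtaleTopology).W_toSheafify P)
  haveI := hb.1
  haveI := hb.2
  let σ : Fin n → EtDesc.sect (EtDesc.repSh (Scheme.Etale.mk f)) V := fun i => η.app (op V) ⟨a i⟩
  have hη : ∀ {W : S.Etale} (g : W ⟶ V) (i : Fin n),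
      (EtDesc.repSh (Scheme.Etale.mk f)).obj.map g.op (σ i) = η.app (op W) ⟨g ≫ a i⟩ :=
    fun {W} g i => (ConcreteCategory.congr_hom (η.naturality g.op) ⟨a i⟩).symm
  refine ⟨σ, fun {W} g s w => ?_, fun {W} g i j hij w => ?_⟩
  · obtain ⟨Z, k, z, ⟨⟨p⟩, hp⟩, hz⟩ :=
      (EtFLC.mem_iff _).1 (Presheaf.imageSieve_mem S.smallEtaleTopology η (U := op W) s) w
    obtain ⟨Z', k', i, ⟨z', hz'⟩, hi⟩ := hsurj (k ≫ g) p z
    refine ⟨Z', k' ≫ k, i, ⟨z', ?_⟩, ?_⟩
    · change (k'.left ≫ k.left) z' = w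
      rw [Scheme.Hom.comp_apply, hz', hz]
    · rw [← map_map, ← hp, hη]
      refine (ConcreteCategory.congr_hom (η.naturality k'.op) ⟨p⟩).symm.trans ?_
      exact congrArg (fun q => η.app (op Z') (ULift.up q)) (hi.trans (by simp only [Category.assoc]))
  · rw [hη, hη] at hij
    obtain ⟨Z, k, z, hk, hz⟩ := (EtFLC.mem_iff _).1
      (Presheaf.equalizerSieve_mem S.smallEtaleTopology η (⟨g ≫ a i⟩ : ULift _) ⟨g ≫ a j⟩ hij) w
    refine hinj (k ≫ g) i j ?_ z
    simp only [Category.assoc]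
    exact congrArg ULift.down hk

end Groth.Agent.EtDescRep
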